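import Cfsg.Agent.Lib.DihedralSylow.Basic

/-!
# A dihedral Sylow 2-subgroup: classes of four-subgroups

`φ : DihedralGroup m →* G` injective with range a Sylow 2-subgroup `S`.  For `4 ∣ m`, the images of the
four-subgroups `four i`, `four j` are conjugate in `G` exactly when `i, j` have the same parity.
-/

set_option autoImplicit false
set_option linter.style.haveILetI false

namespace Cfsg.Agent.DihedralSylow

open DihedralGroup

variable {G : Type*} [Group G] [Finite G] {m : ℕ}

/-- An injective map of `DihedralGroup m` onto the Sylow subgroup `S`. -/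
structure Embeds (S : Sylow 2 G) (φ : DihedralGroup m →* G) : Prop where
  inj : Function.Injective φ
  range : φ.range = (S : Subgroup G)

theorem exists_embeds {S : Sylow 2 G} (e : (S : Subgroup G) ≃* DihedralGroup m) :
    ∃ φ : DihedralGroup m →* G, Embeds S φ :=
  ⟨(S : Subgroup G).subtype.comp e.symm.toMonoidHom,
    (S : Subgroup G).subtype_injective.comp e.symm.injective, by
      rw [MonoidHom.range_eq_map, ← Subgroup.map_map, Subgroup.map_top_of_surjective _ e.symm.surjective,
        ← MonoidHom.range_eq_map, Subgroup.range_subtype]⟩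

theorem exists_two_pow {S : Sylow 2 G} (e : (S : Subgroup G) ≃* DihedralGroup m) :
    ∃ k, m = 2 ^ k := by
  haveI : Fact (Nat.Prime 2) := ⟨Nat.prime_two⟩
  obtain ⟨n, hn⟩ := (IsPGroup.iff_card (p := 2)).mp S.2
  rw [Nat.card_congr e.toEquiv, DihedralGroup.nat_card] at hn
  obtain ⟨k, -, hk⟩ := (Nat.dvd_prime_pow Nat.prime_two).mp (Dvd.intro_left 2 hn)
  exact ⟨k, hk⟩

variable {S : Sylow 2 G} {φ : DihedralGroup m →* G}

theorem Embeds.mem (he : Embeds S φ) (d : DihedralGroup m) : φ d ∈ (S : Subgroup G) :=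
  he.range ▸ ⟨d, rfl⟩

theorem Embeds.exists_preimage (he : Embeds S φ) {g : G} (hg : g ∈ (S : Subgroup G)) :
    ∃ d, φ d = g := by
  rwa [← he.range] at hg

theorem Embeds.map_conj (_he : Embeds S φ) (U : Subgroup (DihedralGroup m)) (d : DihedralGroup m) :
    (U.map (MulAut.conj d).toMonoidHom).map φ =
      (U.map φ).map (MulAut.conj (φ d)).toMonoidHom := by
  rw [Subgroup.map_map, Subgroup.map_map]
  congr 1
  ext x
  simp [MulAut.conj_apply]

theorem map_conj_map (U : Subgroup G) (a b : G) :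
    (U.map (MulAut.conj a).toMonoidHom).map (MulAut.conj b).toMonoidHom =
      U.map (MulAut.conj (b * a)).toMonoidHom := by
  rw [Subgroup.map_map]
  congr 1
  ext x
  simp [MulAut.conj_apply, mul_assoc]

/-- A four-subgroup of `G` is conjugate to some `φ (four i)`. -/
theorem Embeds.exists_conj_eq_four [NeZero m] (he : Embeds S φ) (hm : 2 ∣ m) (V : Subgroup G)
    [IsKleinFour V] : ∃ (g : G) (i : ZMod m),
      V.map (MulAut.conj g).toMonoidHom = (four hm i).map φ := by
  haveI : Fact (Nat.Prime 2) := ⟨Nat.prime_two⟩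
  obtain ⟨P, hP⟩ := (IsPGroup.of_card (p := 2) (n := 2) (G := V)
    (by rw [IsKleinFour.card_four]; norm_num)).exists_le_sylow
  obtain ⟨g, hg⟩ := MulAction.exists_smul_eq G P S
  set V' := V.map (MulAut.conj g).toMonoidHom with hV'
  have hVS : V' ≤ (S : Subgroup G) := by
    rintro _ ⟨v, hv, rfl⟩
    rw [← hg, Sylow.coe_subgroup_smul]
    exact Subgroup.smul_mem_pointwise_smul v (MulAut.conj g) _ (hP hv)
  have hmap : (V'.comap φ).map φ = V' :=
    Subgroup.map_comap_eq_self (by rw [he.range]; exact hVS)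
  have hcard : Nat.card (V'.comap φ) = 4 := by
    have h := Subgroup.card_map_of_injective (K := V'.comap φ) he.inj
    rw [hmap, hV', Subgroup.card_map_of_injective (MulAut.conj g).injective,
      IsKleinFour.card_four] at h
    exact h.symm
  haveI : IsKleinFour (V'.comap φ) := by
    refine ⟨hcard, ?_⟩
    haveI : Nontrivial (V'.comap φ) :=
      Finite.one_lt_card_iff_nontrivial.mp (by rw [hcard]; norm_num)
    refine (Monoid.exponent_eq_prime_iff Nat.prime_two).mpr fun d hd => ?_
    refine orderOf_eq_prime_iff.mpr ⟨Subtype.ext (he.inj ?_), hd⟩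
    obtain ⟨v, hv, hvd⟩ := d.2
    rw [pow_two, Subgroup.coe_mul, Subgroup.coe_one, map_mul, map_one]
    rw [← hvd, ← map_mul, mul_self_of_kleinFour V hv, map_one]
  obtain ⟨i, hi⟩ := exists_eq_four hm (V'.comap φ)
  exact ⟨g, i, by rw [← hi, hmap]⟩

/-- An element of order 4 of the rotation part commutes only with rotations. -/
theorem exists_r_of_commute {a : ZMod m} (ha : a + a ≠ 0) {d : DihedralGroup m}
    (h : Commute (r a) d) : ∃ b, d = r b := by
  rcases d with b | b
  · exact ⟨b, rfl⟩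
  · exfalso
    have h1 : r a * sr b = sr b * r a := h
    rw [r_mul_sr, sr_mul_r, sr.injEq] at h1
    exact ha (by linear_combination -h1)

theorem Embeds.card_le_of_centralizes [NeZero m] (he : Embeds S φ) {a : ZMod m} (ha : a + a ≠ 0)
    (ha4 : (a + a) + (a + a) = 0) (Q : Subgroup G) (hQ : IsPGroup 2 Q)
    (hc : Q ≤ Subgroup.centralizer ({φ (r a)} : Set G)) (hw : φ (r a) ∈ Q) :
    Nat.card Q ≤ m := by
  haveI : Fact (Nat.Prime 2) := ⟨Nat.prime_two⟩
  obtain ⟨P, hP⟩ := hQ.exists_le_sylow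
  obtain ⟨y, hy⟩ := MulAction.exists_smul_eq G P S
  have hin : ∀ z ∈ Q, y * z * y⁻¹ ∈ (S : Subgroup G) := fun z hz => by
    rw [← hy, Sylow.coe_subgroup_smul]
    exact Subgroup.smul_mem_pointwise_smul z (MulAut.conj y) _ (hP hz)
  obtain ⟨c, hc'⟩ := he.exists_preimage (hin _ hw)
  -- `c` is a rotation, not an involution
  have hc2 : c * c ≠ 1 := by
    intro h
    have h1 : φ c * φ c = 1 := by rw [← map_mul, h, map_one]
    rw [hc'] at h1
    have h2 : φ (r a) * φ (r a) = 1 := by
      calc φ (r a) * φ (r a) = y⁻¹ * (y * φ (r a) * y⁻¹ * (y * φ (r a) * y⁻¹)) * y := by group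
        _ = 1 := by rw [h1]; group
    rw [← map_mul, ← map_one φ] at h2
    have h3 := he.inj h2
    rw [r_mul_r, one_def, r.injEq] at h3
    exact ha h3
  obtain ⟨b, rfl⟩ : ∃ b, c = r b := by
    rcases c with b | b
    · exact ⟨b, rfl⟩
    · exact absurd (sr_mul_self b) hc2
  have hb : b + b ≠ 0 := fun h => hc2 (by rw [r_mul_r, h, r_zero])
  have hrot : ∀ z : Q, ∃ e : ZMod m, φ (r e) = y * z * y⁻¹ := by
    intro z
    obtain ⟨d, hd⟩ := he.exists_preimage (hin _ z.2)
    have hcom : Commute (r b) d := by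
      refine he.inj ?_
      rw [map_mul, map_mul, hc', hd]
      have h1 := Subgroup.mem_centralizer_singleton_iff.mp (hc z.2)
      calc y * φ (r a) * y⁻¹ * (y * z * y⁻¹) = y * (φ (r a) * z) * y⁻¹ := by group
        _ = y * (z * φ (r a)) * y⁻¹ := by rw [h1]
        _ = y * z * y⁻¹ * (y * φ (r a) * y⁻¹) := by group
    obtain ⟨e, rfl⟩ := exists_r_of_commute hb hcom
    exact ⟨e, hd⟩
  choose f hf using hrot
  have hfi : Function.Injective f := by
    intro z z' h
    have h1 := hf z
    rw [h, hf z'] at h1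
    exact Subtype.ext ((mul_right_inj y).mp (mul_right_cancel h1)).symm
  simpa using Nat.card_le_card_of_injective f hfi

/-- A 2-group normalising `φ (four i)` is at most as large as `φ (N(four i))`. -/
theorem Embeds.card_le_of_normalizes [NeZero m] (he : Embeds S φ) (hm : 2 ∣ m) (i : ZMod m)
    (P : Subgroup G) (hP : IsPGroup 2 P)
    (hn : P ≤ Subgroup.normalizer (((four hm i).map φ : Subgroup G) : Set G)) :
    Nat.card P ≤ Nat.card (Subgroup.normalizer
      ((four hm i : Subgroup (DihedralGroup m)) : Set (DihedralGroup m))) := by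
  haveI : Fact (Nat.Prime 2) := ⟨Nat.prime_two⟩
  haveI := isKleinFour_four hm i
  set U := (four hm i).map φ with hU
  have hU2 : IsPGroup 2 U := (IsPGroup.of_card (p := 2) (n := 2)
    (by rw [card_four hm i]; norm_num)).map φ
  obtain ⟨T, hT⟩ := (hU2.to_sup_of_normal_left' hP hn).exists_le_sylow
  obtain ⟨y, hy⟩ := MulAction.exists_smul_eq G T S
  have hin : ∀ z ∈ U ⊔ P, y * z * y⁻¹ ∈ (S : Subgroup G) := fun z hz => by
    rw [← hy, Sylow.coe_subgroup_smul]
    exact Subgroup.smul_mem_pointwise_smul z (MulAut.conj y) _ (hT hz)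
  set U' := U.map (MulAut.conj y).toMonoidHom with hU'
  have hU'S : U' ≤ φ.range := by
    rw [he.range]
    rintro _ ⟨z, hz, rfl⟩
    exact hin z (Subgroup.mem_sup_left hz)
  have hmap : (U'.comap φ).map φ = U' := Subgroup.map_comap_eq_self hU'S
  have hcard : Nat.card (U'.comap φ) = 4 := by
    have h := Subgroup.card_map_of_injective (K := U'.comap φ) he.inj
    rw [hmap, hU', Subgroup.card_map_of_injective (MulAut.conj y).injective, hU,
      Subgroup.card_map_of_injective he.inj, card_four hm i] at h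
    exact h.symm
  haveI : IsKleinFour (U'.comap φ) := by
    refine ⟨hcard, ?_⟩
    haveI : Nontrivial (U'.comap φ) :=
      Finite.one_lt_card_iff_nontrivial.mp (by rw [hcard]; norm_num)
    refine (Monoid.exponent_eq_prime_iff Nat.prime_two).mpr fun d hd => ?_
    refine orderOf_eq_prime_iff.mpr ⟨Subtype.ext (he.inj ?_), hd⟩
    obtain ⟨_, ⟨v, hv, rfl⟩, hvd⟩ := d.2
    rw [pow_two, Subgroup.coe_mul, Subgroup.coe_one, map_mul, map_one]
    rw [← hvd, ← map_mul, ← map_mul φ, sq_four hm hv, map_one, map_one]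
  obtain ⟨j, hj⟩ := exists_eq_four hm (U'.comap φ)
  rw [card_normalizer_four hm i, ← card_normalizer_four hm j]
  have hpre : ∀ z : P, ∃ d : Subgroup.normalizer
      ((four hm j : Subgroup (DihedralGroup m)) : Set (DihedralGroup m)),
      φ d = y * z * y⁻¹ := by
    intro z
    obtain ⟨d, hd⟩ := he.exists_preimage (hin _ (Subgroup.mem_sup_right z.2))
    refine ⟨⟨d, ?_⟩, hd⟩
    rw [← hj, Subgroup.mem_normalizer_iff]
    intro g
    have hzU : y * z * y⁻¹ ∈ Subgroup.normalizer (U' : Set G) := by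
      rw [hU', ← Subgroup.map_equiv_normalizer_eq]
      exact ⟨z, hn z.2, rfl⟩
    rw [← hd] at hzU
    simp only [Subgroup.mem_comap, map_mul, map_inv]
    exact Subgroup.mem_normalizer_iff.mp hzU (φ g)
  choose f hf using hpre
  refine Nat.card_le_card_of_injective f fun z z' h => ?_
  have h1 := hf z
  rw [h, hf z'] at h1
  exact Subtype.ext ((mul_right_inj y).mp (mul_right_cancel h1)).symm

theorem mem_of_odd_order_of_isComplement {H : Type*} [Group H] [Finite H] {K P : Subgroup H}
    [K.Normal] (hc : Subgroup.IsComplement' K P) (hP : IsPGroup 2 P) {c : H}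
    (hodd : Odd (orderOf c)) : c ∈ K := by
  haveI : Fact (Nat.Prime 2) := ⟨Nat.prime_two⟩
  obtain ⟨n, hn⟩ := (IsPGroup.iff_card (p := 2)).mp hP
  rw [← QuotientGroup.eq_one_iff, ← orderOf_eq_one_iff]
  refine Nat.eq_one_of_dvd_coprimes ((Nat.coprime_two_right.mpr hodd).pow_right n)
    (orderOf_map_dvd (QuotientGroup.mk' K) c) ?_
  have h := orderOf_dvd_natCard (G := H ⧸ K) (c : H ⧸ K)
  rw [← Subgroup.index_eq_card, hc.symm.index_eq_card, hn] at h
  exact h

/-- Four-subgroups with indices of different parity are not conjugate. -/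
theorem Embeds.parity_eq_of_conj [NeZero m] (he : Embeds S φ) (hm : 4 ∣ m) {i j : ZMod m} {g : G}
    (hg : ((four ((dvd_mul_left 2 2).trans hm) i).map φ).map (MulAut.conj g).toMonoidHom =
      (four ((dvd_mul_left 2 2).trans hm) j).map φ) :
    parity ((dvd_mul_left 2 2).trans hm) i = parity ((dvd_mul_left 2 2).trans hm) j := by
  haveI : Fact (Nat.Prime 2) := ⟨Nat.prime_two⟩
  have hm2 : 2 ∣ m := (dvd_mul_left 2 2).trans hm
  let N : ZMod m → Subgroup (DihedralGroup m) := fun l =>
    Subgroup.normalizer ((four hm2 l : Subgroup (DihedralGroup m)) : Set (DihedralGroup m))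
  set U := (four hm2 i).map φ with hU
  set U' := (four hm2 j).map φ with hU'
  set D := (N i).map φ with hD
  set D' := (N j).map φ with hD'
  have hD2 : ∀ l, IsPGroup 2 ↥((N l).map φ) := fun l =>
    S.2.to_le (by rw [← he.range]; exact Subgroup.map_le_range φ (N l))
  have hnorm : ∀ l, (N l).map φ ≤ Subgroup.normalizer (((four hm2 l).map φ : Subgroup G) : Set G) :=
    fun l => Subgroup.le_normalizer_map φ
  set M := Subgroup.normalizer (U' : Set G) with hM
  have hDg : D.map (MulAut.conj g).toMonoidHom ≤ M := by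
    rw [hM, ← hg, ← Subgroup.map_equiv_normalizer_eq]
    exact Subgroup.map_mono (hnorm i)
  have hcardD : Nat.card D = Nat.card (N j) := by
    rw [hD, Subgroup.card_map_of_injective he.inj, card_normalizer_four hm2 i,
      ← card_normalizer_four hm2 j]
  have hsyl : ∀ Q : Subgroup G, Q ≤ M → IsPGroup 2 Q → Nat.card Q = Nat.card (N j) →
      ∃ T : Sylow 2 M, (T : Subgroup M) = Q.subgroupOf M := by
    intro Q hQM hQ hQc
    obtain ⟨T, hT⟩ := (hQ.comap_subtype (K := M)).exists_le_sylow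
    refine ⟨T, (Subgroup.eq_of_le_of_card_ge hT ?_).symm⟩
    show Nat.card (T : Subgroup M) ≤ Nat.card (Q.subgroupOf M)
    rw [Nat.card_congr (Subgroup.subgroupOfEquivOfLe hQM).toEquiv, hQc,
      ← Subgroup.card_map_of_injective M.subtype_injective]
    exact he.card_le_of_normalizes hm2 j _ (T.2.map _) (Subgroup.map_subtype_le _)
  obtain ⟨T₁, hT₁⟩ := hsyl _ hDg ((hD2 i).map _)
    (by rw [Subgroup.card_map_of_injective (MulAut.conj g).injective, hcardD])
  obtain ⟨T₂, hT₂⟩ := hsyl D' (hnorm j) (hD2 j) (Subgroup.card_map_of_injective he.inj)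
  obtain ⟨n, hn⟩ := MulAction.exists_smul_eq M T₁ T₂
  set h := (n : G) * g with hh
  -- `h` carries `U` to `U'` and `D` into `D'`
  have hUh : U.map (MulAut.conj h).toMonoidHom = U' := by
    rw [hh, ← map_conj_map, hg]
    exact Subgroup.mem_normalizer_iff_map_conj_eq.mp n.2
  have hDh : ∀ d ∈ D, h * d * h⁻¹ ∈ D' := by
    intro d hd
    have hd' : g * d * g⁻¹ ∈ D.map (MulAut.conj g).toMonoidHom := ⟨d, hd, rfl⟩
    have h1 : (⟨g * d * g⁻¹, hDg hd'⟩ : M) ∈ (T₁ : Subgroup M) := by
      rw [hT₁]; exact hd'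
    have h2 : n * ⟨g * d * g⁻¹, hDg hd'⟩ * n⁻¹ ∈ (T₂ : Subgroup M) := by
      rw [← hn, Sylow.coe_subgroup_smul]
      exact Subgroup.smul_mem_pointwise_smul _ (MulAut.conj n) _ h1
    rw [hT₂, Subgroup.mem_subgroupOf] at h2
    have e : h * d * h⁻¹ = (n : G) * (g * d * g⁻¹) * (n : G)⁻¹ := by rw [hh]; group
    rw [e]
    simpa using h2
  -- `w`, of order 4
  set q := quart m with hq
  have hqq : q + q ≠ 0 := by rw [quart_add_quart hm]; exact half_ne_zero hm2
  have hq4 : (q + q) + (q + q) = 0 := by rw [quart_add_quart hm]; exact half_add_half hm2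
  have hqN : ∀ l, r q ∈ N l := fun l =>
    (r_mem_normalizer_four_iff hm2).mpr (Or.inr (quart_add_quart hm))
  set w := φ (r q) with hw
  obtain ⟨d, hdN, hdw⟩ := hDh w ⟨r q, hqN i, rfl⟩
  have hd : d = r q ∨ d = r (-q) := by
    have hdd : d * d ≠ 1 := by
      intro hdd
      have h1 : φ d * φ d = 1 := by rw [← map_mul, hdd, map_one]
      rw [hdw] at h1
      have h2 : w * w = 1 := by
        calc w * w = h⁻¹ * (h * w * h⁻¹ * (h * w * h⁻¹)) * h := by group
          _ = 1 := by rw [h1]; group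
      rw [hw, ← map_mul, ← map_one φ] at h2
      have h3 := he.inj h2
      rw [r_mul_r, one_def, r.injEq] at h3
      exact hqq h3
    rcases d with a | a
    · rcases (r_mem_normalizer_four_iff hm2).mp hdN with h1 | h1
      · exact absurd (by rw [r_mul_r, h1, r_zero]) hdd
      · rw [← quart_add_quart hm, add_self_eq_iff hm2] at h1
        rcases h1 with h1 | h1
        · exact Or.inl (congrArg r h1)
        · refine Or.inr (congrArg r ?_)
          rw [h1]
          linear_combination quart_add_quart hm + half_add_half hm2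
    · exact absurd (sr_mul_self a) hdd
  obtain ⟨e, hec⟩ : ∃ e : DihedralGroup m, (φ e)⁻¹ * h ∈ Subgroup.centralizer ({w} : Set G) := by
    rcases hd with rfl | rfl
    · refine ⟨1, ?_⟩
      rw [map_one, inv_one, one_mul, Subgroup.mem_centralizer_singleton_iff]
      rw [← hw] at hdw
      nth_rewrite 2 [hdw]
      group
    · refine ⟨sr 0, ?_⟩
      rw [Subgroup.mem_centralizer_singleton_iff]
      have h1 : φ (sr 0) * w * (φ (sr 0))⁻¹ = h * w * h⁻¹ := by
        rw [hw, ← map_inv, ← map_mul, ← map_mul, inv_sr, sr_mul_r, sr_mul_sr, zero_sub, zero_add,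
          hdw]
      calc (φ (sr 0))⁻¹ * h * w = (φ (sr 0))⁻¹ * (h * w * h⁻¹) * h := by group
        _ = w * ((φ (sr 0))⁻¹ * h) := by rw [← h1]; group
  -- the centralizer of `w` has cyclic Sylow 2-subgroup and a normal 2-complement
  set C := Subgroup.centralizer ({w} : Set G) with hC
  set Rot := (Subgroup.zpowers (r (1 : ZMod m))).map φ with hRot
  have hrotC : Rot ≤ C := by
    rw [hRot, MonoidHom.map_zpowers, Subgroup.zpowers_le, hC,
      Subgroup.mem_centralizer_singleton_iff, hw, ← map_mul, ← map_mul, r_mul_r, r_mul_r, add_comm]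
  have hwRot : w ∈ Rot := ⟨r q, ⟨((m / 4 : ℕ) : ℤ), by
    show r (1 : ZMod m) ^ ((m / 4 : ℕ) : ℤ) = r q
    rw [r_one_zpow, hq, quart, Int.cast_natCast]⟩, rfl⟩
  have hRot2 : IsPGroup 2 Rot :=
    S.2.to_le (by rw [← he.range]; exact Subgroup.map_le_range φ _)
  have hRotcard : Nat.card Rot = m := by
    rw [hRot, Subgroup.card_map_of_injective he.inj, Nat.card_zpowers, orderOf_r_one]
  obtain ⟨T, hT⟩ := (hRot2.comap_subtype (K := C)).exists_le_sylow
  have hTeq : Rot.subgroupOf C = (T : Subgroup C) := by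
    refine Subgroup.eq_of_le_of_card_ge hT ?_
    rw [Nat.card_congr (Subgroup.subgroupOfEquivOfLe hrotC).toEquiv, hRotcard,
      ← Subgroup.card_map_of_injective C.subtype_injective]
    refine he.card_le_of_centralizes hqq hq4 _ (T.2.map _) (Subgroup.map_subtype_le _) ?_
    exact ⟨⟨w, hrotC hwRot⟩, hT (Subgroup.mem_subgroupOf.mpr hwRot), rfl⟩
  have hTcyc : IsCyclic (T : Subgroup C) := by
    rw [← hTeq]
    have h0 : IsCyclic Rot := by
      rw [hRot, MonoidHom.map_zpowers]; infer_instance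
    exact (Subgroup.subgroupOfEquivOfLe hrotC).isCyclic.mpr h0
  have hmin : (Nat.card C).minFac = 2 := by
    refine Nat.minFac_eq_two_iff _ |>.mpr ?_
    have h2 : 2 ∣ Nat.card Rot := by rw [hRotcard]; exact hm2
    exact h2.trans (Subgroup.card_dvd_of_le hrotC)
  have hcompl := MonoidHom.ker_transferSylow_isComplement' T
    (hTcyc.normalizer_le_centralizer (p := 2) hmin)
  set K := (MonoidHom.transferSylow T (hTcyc.normalizer_le_centralizer (p := 2) hmin)).ker with hK
  obtain ⟨⟨⟨p, hp⟩, ⟨k, hk⟩⟩, hpk⟩ :=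
    ((Subgroup.isComplement'_def.mp hcompl.symm).existsUnique ⟨_, hec⟩).exists
  have hkodd : Odd (orderOf k) := by
    have h1 : Odd (Nat.card K) := by
      rw [← hcompl.index_eq_card, ← Nat.not_even_iff_odd, even_iff_two_dvd]
      exact T.not_dvd_index
    have h2 := h1.of_dvd_nat (orderOf_dvd_natCard (⟨k, hk⟩ : K))
    rwa [Subgroup.orderOf_mk] at h2
  rw [SetLike.mem_coe, ← hTeq, Subgroup.mem_subgroupOf] at hp
  obtain ⟨p', -, hp'⟩ := hp
  -- `h = φ (e p') k`
  have hhk : h = φ (e * p') * (k : G) := by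
    have h1 : (p : G) * (k : G) = (φ e)⁻¹ * h := congrArg Subtype.val hpk
    rw [map_mul, hp', mul_assoc, h1, mul_inv_cancel_left]
  have hfix : ∀ x ∈ D, (k : G) * x * (k : G)⁻¹ = x := by
    rintro _ ⟨x, hx, rfl⟩
    obtain ⟨x', -, hx'⟩ := hDh _ ⟨x, hx, rfl⟩
    have hkxS : (k : G) * φ x * (k : G)⁻¹ = φ ((e * p')⁻¹ * x' * (e * p')) := by
      rw [map_mul, map_mul, map_inv, hx', hhk]; group
    -- `φ x` normalises `C`
    have hxC : φ x * (k : G)⁻¹ * (φ x)⁻¹ ∈ C := by
      refine Subgroup.mem_centralizer_singleton_iff.mpr ?_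
      obtain ⟨l, hl⟩ : ∃ l : DihedralGroup m, l = x⁻¹ * r q * x ∧ (l = r q ∨ l = r (-q)) :=
        ⟨_, rfl, by rcases x with a | a <;> simp⟩
      have hk' := Subgroup.mem_centralizer_singleton_iff.mp (inv_mem (k : C).2)
      have hkl : (k : G)⁻¹ * φ l = φ l * (k : G)⁻¹ := by
        rcases hl.2 with h1 | h1 <;> rw [h1]
        · exact hk'
        · rw [← inv_r, map_inv]
          exact ((show Commute (k : G)⁻¹ w from hk').inv_right).eq
      rw [hl.1, map_mul, map_mul, map_inv, ← hw] at hkl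
      calc φ x * (k : G)⁻¹ * (φ x)⁻¹ * w
          = φ x * ((k : G)⁻¹ * ((φ x)⁻¹ * w * φ x)) * (φ x)⁻¹ := by group
        _ = φ x * ((φ x)⁻¹ * w * φ x * (k : G)⁻¹) * (φ x)⁻¹ := by rw [hkl]
        _ = w * (φ x * (k : G)⁻¹ * (φ x)⁻¹) := by group
    have h1 : (⟨_, hxC⟩ : C) ∈ K := by
      refine mem_of_odd_order_of_isComplement hcompl T.2 ?_
      rw [Subgroup.orderOf_mk, ← MulAut.conj_apply, MulEquiv.orderOf_eq, orderOf_inv,
        Subgroup.orderOf_coe]
      exact hkodd
    have h2 : k * ⟨_, hxC⟩ ∈ K := mul_mem hk h1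
    set z := k * ⟨_, hxC⟩ with hz
    have hzG : (z : G) = φ ((e * p')⁻¹ * x' * (e * p') * x⁻¹) := by
      rw [map_mul, ← hkxS, map_inv, hz, Subgroup.coe_mul]; group
    have h3 : z ∈ (T : Subgroup C) := by
      -- a 2-element of `K` is trivial
      have hzo : orderOf z = 1 := by
        obtain ⟨a, ha⟩ := S.2 ⟨_, he.mem ((e * p')⁻¹ * x' * (e * p') * x⁻¹)⟩
        have h4 : orderOf z ∣ 2 ^ a := by
          refine orderOf_dvd_of_pow_eq_one (Subtype.ext ?_)
          rw [Subgroup.coe_pow, hzG]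
          exact congrArg Subtype.val ha
        have h5 : Odd (orderOf z) := by
          have h6 : Odd (Nat.card K) := by
            rw [← hcompl.index_eq_card, ← Nat.not_even_iff_odd, even_iff_two_dvd]
            exact T.not_dvd_index
          have h7 := h6.of_dvd_nat (orderOf_dvd_natCard (⟨z, h2⟩ : K))
          rwa [Subgroup.orderOf_mk] at h7
        exact Nat.eq_one_of_dvd_coprimes ((Nat.coprime_two_right.mpr h5).pow_right a) dvd_rfl h4
      rw [orderOf_eq_one_iff.mp hzo]; exact one_mem _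
    have h4 : z = 1 := Subgroup.disjoint_def.mp hcompl.disjoint h2 h3
    have h5 : (k : G) * (φ x * (k : G)⁻¹ * (φ x)⁻¹) = 1 := congrArg Subtype.val h4
    calc (k : G) * φ x * (k : G)⁻¹ = ((k : G) * (φ x * (k : G)⁻¹ * (φ x)⁻¹)) * φ x := by group
      _ = φ x := by rw [h5, one_mul]
  refine parity_of_conj hm (g := e * p') ?_
  have hi : φ (sr i) ∈ U := ⟨_, sr_mem_four_self hm2 i, rfl⟩
  have h1 : h * φ (sr i) * h⁻¹ ∈ U' := hUh ▸ ⟨_, hi, rfl⟩
  have h2 : h * φ (sr i) * h⁻¹ = φ ((e * p') * sr i * (e * p')⁻¹) := by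
    rw [hhk, map_mul φ _ (e * p')⁻¹, map_mul φ (e * p'), map_inv]
    have h3 := hfix (φ (sr i)) ⟨_, Subgroup.le_normalizer (sr_mem_four_self hm2 i), rfl⟩
    calc φ (e * p') * (k : G) * φ (sr i) * (φ (e * p') * (k : G))⁻¹
        = φ (e * p') * ((k : G) * φ (sr i) * (k : G)⁻¹) * (φ (e * p'))⁻¹ := by group
      _ = _ := by rw [h3]
  rw [h2] at h1
  obtain ⟨u, hu, huu⟩ := h1
  exact he.inj huu ▸ hu

end Cfsg.Agent.DihedralSylow
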