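import Cfsg.Agent.Lib.DihedralSylow.Sylow
import Cfsg.Agent.Lib.Fusion.DihedralAut

/-!
# A dihedral Sylow 2-subgroup: automizers of its subgroups
-/

set_option autoImplicit false
set_option linter.style.haveILetI false

namespace Cfsg.Agent.DihedralSylow

open DihedralGroup

variable {G : Type*} [Group G] [Finite G]

/-- An element of odd order normalising a subgroup with 2-group automorphisms centralises it. -/
theorem mem_centralizer_of_isPGroup_mulAut (Q : Subgroup G) (hA : IsPGroup 2 (MulAut Q)) {g : G}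
    (hg : g ∈ Subgroup.normalizer (Q : Set G)) (hodd : Odd (orderOf g)) :
    g ∈ Subgroup.centralizer (Q : Set G) := by
  obtain ⟨k, hk⟩ := hA (Q.normalizerMonoidHom ⟨g, hg⟩)
  have h1 : orderOf (Q.normalizerMonoidHom ⟨g, hg⟩) = 1 := by
    refine Nat.eq_one_of_dvd_coprimes ((Nat.coprime_two_right.mpr hodd).pow_right k)
      ((orderOf_map_dvd _ _).trans (by rw [Subgroup.orderOf_mk])) (orderOf_dvd_of_pow_eq_one hk)
  have h2 : (⟨g, hg⟩ : Subgroup.normalizer (Q : Set G)) ∈ Q.normalizerMonoidHom.ker :=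
    orderOf_eq_one_iff.mp h1
  rw [Subgroup.normalizerMonoidHom_ker, Subgroup.mem_subgroupOf] at h2
  exact h2

/-- An element of odd order normalising a cyclic 2-group centralises it. -/
theorem mem_centralizer_of_isCyclic (Q : Subgroup G) (hQ : IsPGroup 2 Q) [IsCyclic Q] {g : G}
    (hg : g ∈ Subgroup.normalizer (Q : Set G)) (hodd : Odd (orderOf g)) :
    g ∈ Subgroup.centralizer (Q : Set G) := by
  haveI : Fact (Nat.Prime 2) := ⟨Nat.prime_two⟩
  refine mem_centralizer_of_isPGroup_mulAut Q ?_ hg hodd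
  obtain ⟨k, hk⟩ := (IsPGroup.iff_card (p := 2)).mp hQ
  have hc := IsCyclic.card_mulAut (G := Q)
  rcases Nat.eq_zero_or_pos k with rfl | hkpos
  · rw [hk, pow_zero, Nat.totient_one] at hc
    exact IsPGroup.of_card (n := 0) hc
  · rw [hk, Nat.totient_prime_pow Nat.prime_two hkpos, show 2 - 1 = 1 from rfl, mul_one] at hc
    exact IsPGroup.of_card hc

variable {m : ℕ} {S : Sylow 2 G} {φ : DihedralGroup m →* G}

/-- A subgroup of `S` is cyclic, a four-group `φ (four i)`, or dihedral of order at least 8. -/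
theorem Embeds.subgroup_cases [NeZero m] (he : Embeds S φ) {K : ℕ} (hK : m = 2 ^ K) (hm : 2 ∣ m)
    (Q : Subgroup G) (hQ : Q ≤ (S : Subgroup G)) :
    IsCyclic Q ∨ (∃ i, Q = (four hm i).map φ) ∨
      ∃ x t k, Fusion.Dihedral.DihedralGen Q x t k := by
  set Q₀ := Q.comap φ with hQ₀
  have hmap : Q₀.map φ = Q := Subgroup.map_comap_eq_self (by rw [he.range]; exact hQ)
  set R₀ := Q₀ ⊓ Subgroup.zpowers (r (1 : ZMod m)) with hR₀
  have hrot : ∀ {d : DihedralGroup m}, d ∈ Subgroup.zpowers (r (1 : ZMod m)) → ∃ a, d = r a := by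
    rintro d ⟨l, rfl⟩; exact ⟨(l : ZMod m), r_one_zpow l⟩
  have hrot' : ∀ a : ZMod m, r a ∈ Subgroup.zpowers (r (1 : ZMod m)) := fun a =>
    ⟨(a.val : ℤ), by
      show r (1 : ZMod m) ^ ((a.val : ℕ) : ℤ) = r a
      rw [r_one_zpow, Int.cast_natCast, ZMod.natCast_zmod_val]⟩
  haveI : IsCyclic R₀ := Subgroup.isCyclic_of_le (inf_le_right : R₀ ≤ _)
  obtain ⟨⟨g₀, hg₀⟩, hgen⟩ := IsCyclic.exists_generator (α := R₀)
  obtain ⟨a, rfl⟩ := hrot hg₀.2
  have hR₀eq : R₀ = Subgroup.zpowers (r a) := by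
    refine le_antisymm (fun d hd => ?_) (Subgroup.zpowers_le.mpr hg₀)
    obtain ⟨l, hl⟩ := hgen ⟨d, hd⟩
    exact ⟨l, congrArg Subtype.val hl⟩
  by_cases hrefl : ∃ i, sr i ∈ Q₀
  swap
  · left
    have hle : Q₀ ≤ Subgroup.zpowers (r a) := by
      rw [← hR₀eq]
      intro d hd
      rcases d with b | b
      · exact ⟨hd, hrot' b⟩
      · exact absurd ⟨b, hd⟩ hrefl
    have : Q ≤ Subgroup.zpowers (φ (r a)) := by
      rw [← hmap, ← MonoidHom.map_zpowers]; exact Subgroup.map_mono hle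
    exact Subgroup.isCyclic_of_le this
  obtain ⟨i, hi⟩ := hrefl
  have hQ₀eq : Q₀ = Subgroup.zpowers (r a) ⊔ Subgroup.zpowers (sr i) := by
    refine le_antisymm (fun d hd => ?_) (sup_le (hR₀eq ▸ inf_le_left) (Subgroup.zpowers_le.mpr hi))
    rcases d with b | b
    · exact Subgroup.mem_sup_left (hR₀eq ▸ ⟨hd, hrot' b⟩)
    · have h1 : r (b - i) ∈ R₀ := ⟨sr_mul_sr i b ▸ Q₀.mul_mem hi hd, hrot' _⟩
      rw [hR₀eq] at h1
      have h2 := Subgroup.mul_mem _ (Subgroup.mem_sup_right (Subgroup.mem_zpowers (sr i)))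
        (Subgroup.mem_sup_left h1 : r (b - i) ∈ Subgroup.zpowers (r a) ⊔ Subgroup.zpowers (sr i))
      simpa using h2
  have hord : orderOf (r a) ∣ 2 ^ K := by
    refine orderOf_dvd_of_pow_eq_one ?_
    rw [r_pow, ← hK, ZMod.natCast_self, mul_zero, r_zero]
  obtain ⟨k, -, hk⟩ := (Nat.dvd_prime_pow Nat.prime_two).mp hord
  rcases Nat.lt_or_ge k 1 with hk0 | hk1
  · left
    have hk0' : k = 0 := by omega
    subst hk0'
    rw [pow_zero, orderOf_eq_one_iff] at hk
    have : Q = Subgroup.zpowers (φ (sr i)) := by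
      rw [← hmap, hQ₀eq, hk, Subgroup.zpowers_one_eq_bot, bot_sup_eq, MonoidHom.map_zpowers]
    rw [this]; infer_instance
  rcases Nat.lt_or_ge k 2 with hk2 | hk2
  · right; left
    have hk1' : k = 1 := by omega
    subst hk1'
    rw [pow_one] at hk
    have ha : a = half m := by
      have h1 := pow_orderOf_eq_one (r a)
      rw [hk, pow_two, r_mul_r, one_def, r.injEq] at h1
      rcases eq_zero_or_half h1 with h0 | h0
      · rw [h0, r_zero, orderOf_one] at hk; omega
      · exact h0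
    refine ⟨i, ?_⟩
    rw [← hmap, hQ₀eq, ha]
    congr 1
    refine le_antisymm (sup_le (Subgroup.zpowers_le.mpr ?_) (Subgroup.zpowers_le.mpr ?_)) ?_
    · exact Or.inr (Or.inl rfl)
    · exact sr_mem_four_self hm i
    · intro g hg
      have e1 : r (half m) ∈ Subgroup.zpowers (r (half m)) ⊔ Subgroup.zpowers (sr i) :=
        Subgroup.mem_sup_left (Subgroup.mem_zpowers _)
      have e2 : sr i ∈ Subgroup.zpowers (r (half m)) ⊔ Subgroup.zpowers (sr i) :=
        Subgroup.mem_sup_right (Subgroup.mem_zpowers _)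
      rcases hg with rfl | rfl | rfl | rfl
      · exact one_mem _
      · exact e1
      · exact e2
      · rw [← sr_mul_r i (half m)]; exact mul_mem e2 e1
  · right; right
    refine ⟨φ (r a), φ (sr i), k, ⟨hk2, ?_, ?_, ?_, ?_⟩⟩
    · rw [orderOf_injective φ he.inj, hk]
    · rw [← map_mul, sr_mul_self, map_one]
    · rw [← map_inv φ (sr i), ← map_mul, ← map_mul, ← map_inv]
      simp
    · rw [← hmap, hQ₀eq, Subgroup.map_sup, MonoidHom.map_zpowers, MonoidHom.map_zpowers]

theorem Embeds.isKleinFour_map [NeZero m] (he : Embeds S φ) (hm : 2 ∣ m) (i : ZMod m) :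
    IsKleinFour ((four hm i).map φ : Subgroup G) := by
  have hc : Nat.card ((four hm i).map φ : Subgroup G) = 4 := by
    rw [Subgroup.card_map_of_injective he.inj, card_four hm i]
  refine ⟨hc, ?_⟩
  haveI : Nontrivial ((four hm i).map φ : Subgroup G) :=
    Finite.one_lt_card_iff_nontrivial.mp (by rw [hc]; norm_num)
  refine (Monoid.exponent_eq_prime_iff Nat.prime_two).mpr fun d hd => ?_
  refine orderOf_eq_prime_iff.mpr ⟨Subtype.ext ?_, hd⟩
  obtain ⟨v, hv, hvd⟩ := d.2
  rw [pow_two, Subgroup.coe_mul, Subgroup.coe_one, ← hvd, ← map_mul, sq_four hm hv, map_one]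

theorem Embeds.mem_centralizer_of_four [NeZero m] (he : Embeds S φ) {K : ℕ} (hK : m = 2 ^ K)
    (hm : 2 ∣ m) {Q : Subgroup G} (hQ : Q ≤ (S : Subgroup G)) {g : G}
    (hg : g ∈ Subgroup.normalizer (Q : Set G)) (hodd : Odd (orderOf g))
    (hfour : ∀ i, g ∈ Subgroup.normalizer (((four hm i).map φ : Subgroup G) : Set G) →
      g ∈ Subgroup.centralizer (((four hm i).map φ : Subgroup G) : Set G)) :
    g ∈ Subgroup.centralizer (Q : Set G) := by
  rcases he.subgroup_cases hK hm Q hQ with h | ⟨i, rfl⟩ | ⟨x, t, k, h⟩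
  · exact mem_centralizer_of_isCyclic Q (S.2.to_le hQ) hg hodd
  · exact hfour i hg
  · rw [Subgroup.mem_centralizer_iff]
    intro s hs
    have h1 := h.centralizes_of_odd (g := g) (fun y hy => (Subgroup.mem_normalizer_iff.mp hg y).mp hy)
      hodd (fun y _ => by rw [pow_orderOf_eq_one]; group) s hs
    exact (mul_inv_eq_iff_eq_mul.mp h1).symm

end Cfsg.Agent.DihedralSylow
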