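import Mathlib

/-!
# Klein four-subgroups of dihedral 2-groups

`DihedralGroup m` with `4 ∣ m`: the four-subgroups are `four i = {1, r h, sr i, sr (i + h)}` with `h = m/2`,
two of them are conjugate exactly when the parities of their indices agree, and their normalizers all
have the same order.
-/

set_option autoImplicit false

namespace Cfsg.Agent.DihedralSylow

open DihedralGroup

variable {m : ℕ}

/-- `m / 2` in `ZMod m`. -/
def half (m : ℕ) : ZMod m := ((m / 2 : ℕ) : ZMod m)

/-- `m / 4` in `ZMod m`. -/
def quart (m : ℕ) : ZMod m := ((m / 4 : ℕ) : ZMod m)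

theorem half_add_half (hm : 2 ∣ m) : half m + half m = 0 := by
  obtain ⟨j, rfl⟩ := hm
  rw [half, ← Nat.cast_add, show 2 * j / 2 + 2 * j / 2 = 2 * j by omega, ZMod.natCast_self]

theorem quart_add_quart (hm : 4 ∣ m) : quart m + quart m = half m := by
  obtain ⟨j, rfl⟩ := hm
  rw [quart, half, ← Nat.cast_add, show 4 * j / 4 + 4 * j / 4 = 4 * j / 2 by omega]

theorem half_ne_zero [NeZero m] (hm : 2 ∣ m) : half m ≠ 0 := by
  rw [half, Ne, ZMod.natCast_eq_zero_iff]
  intro h
  have h0 : 0 < m := NeZero.pos m
  have := Nat.le_of_dvd (by omega) h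
  omega

theorem neg_half (hm : 2 ∣ m) : -half m = half m :=
  neg_eq_of_add_eq_zero_left (half_add_half hm)

theorem eq_zero_or_half [NeZero m] {a : ZMod m} (h : a + a = 0) : a = 0 ∨ a = half m := by
  have h1 : ((a.val + a.val : ℕ) : ZMod m) = 0 := by
    rw [Nat.cast_add, ZMod.natCast_zmod_val, h]
  rw [ZMod.natCast_eq_zero_iff] at h1
  obtain ⟨c, hc⟩ := h1
  have hlt := a.val_lt
  have hc2 : c < 2 := by
    by_contra hc2
    have : m * 2 ≤ m * c := Nat.mul_le_mul_left m (by omega)
    omega
  interval_cases c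
  · exact Or.inl ((ZMod.val_eq_zero a).mp (by omega))
  · refine Or.inr ?_
    rw [half, show m / 2 = a.val by omega, ZMod.natCast_zmod_val]

theorem add_self_eq_iff [NeZero m] (hm : 2 ∣ m) {a b : ZMod m} :
    a + a = b + b ↔ a = b ∨ a = b + half m := by
  constructor
  · intro h
    have h1 : (a - b) + (a - b) = 0 := by linear_combination h
    rcases eq_zero_or_half h1 with h2 | h2
    · exact Or.inl (sub_eq_zero.mp h2)
    · exact Or.inr (sub_eq_iff_eq_add'.mp h2)
  · rintro (rfl | rfl)
    · rfl
    · linear_combination half_add_half hm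

/-- The parity of an element of `ZMod m`. -/
def parity (hm : 2 ∣ m) : ZMod m →+* ZMod 2 := ZMod.castHom hm (ZMod 2)

theorem parity_half (hm : 4 ∣ m) : parity ((dvd_mul_left 2 2).trans hm) (half m) = 0 := by
  rw [← quart_add_quart hm, map_add]
  exact CharTwo.add_self_eq_zero _

theorem exists_add_self_of_parity [NeZero m] (hm : 2 ∣ m) {a : ZMod m} (h : parity hm a = 0) :
    ∃ b : ZMod m, b + b = a := by
  have h1 : ((a.val : ℕ) : ZMod 2) = 0 := by
    rw [← map_natCast (parity hm), ZMod.natCast_zmod_val, h]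
  rw [ZMod.natCast_eq_zero_iff] at h1
  obtain ⟨b, hb⟩ := h1
  exact ⟨(b : ZMod m), by rw [← Nat.cast_add, ← two_mul, ← hb, ZMod.natCast_zmod_val]⟩

theorem parity_eq_zero_or_one (hm : 2 ∣ m) (a : ZMod m) : parity hm a = 0 ∨ parity hm a = 1 := by
  generalize parity hm a = x
  fin_cases x
  · exact Or.inl rfl
  · exact Or.inr rfl

/-- The four-subgroup `{1, r h, sr i, sr (i + h)}`. -/
def four (hm : 2 ∣ m) (i : ZMod m) : Subgroup (DihedralGroup m) where
  carrier := {g | g = 1 ∨ g = r (half m) ∨ g = sr i ∨ g = sr (i + half m)}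
  one_mem' := Or.inl rfl
  mul_mem' := by
    have h2 := half_add_half hm
    have e1 : i + half m + half m = i := by linear_combination h2
    have e2 : i - half m = i + half m := by linear_combination -h2
    have e3 : -half m = half m := neg_half hm
    rintro a b (rfl | rfl | rfl | rfl) (rfl | rfl | rfl | rfl) <;>
      simp [h2, e1, e2, e3, sub_add_eq_sub_sub, ← one_def, Set.mem_ofPred_eq]
  inv_mem' := by
    have e3 : -half m = half m := neg_half hm
    rintro a (rfl | rfl | rfl | rfl) <;> simp [e3, Set.mem_ofPred_eq]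

theorem mem_four {hm : 2 ∣ m} {i : ZMod m} {g : DihedralGroup m} :
    g ∈ four hm i ↔ g = 1 ∨ g = r (half m) ∨ g = sr i ∨ g = sr (i + half m) := Iff.rfl

theorem sr_mem_four_iff {hm : 2 ∣ m} {i j : ZMod m} :
    sr j ∈ four hm i ↔ j = i ∨ j = i + half m := by
  rw [mem_four, one_def]; simp [-r_zero]

theorem r_mem_four_iff {hm : 2 ∣ m} {i a : ZMod m} :
    r a ∈ four hm i ↔ a = 0 ∨ a = half m := by
  rw [mem_four, one_def]; simp [-r_zero]

theorem card_four [NeZero m] (hm : 2 ∣ m) (i : ZMod m) : Nat.card (four hm i) = 4 := by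
  have h0 := half_ne_zero hm
  have h : ((four hm i : Subgroup (DihedralGroup m)) : Set (DihedralGroup m)) =
      {1, r (half m), sr i, sr (i + half m)} := by ext g; simp [mem_four]
  rw [← SetLike.coe_sort_coe, Nat.card_coe_set_eq, h,
    Set.ncard_insert_of_notMem (by simp [one_def, -r_zero, h0.symm]),
    Set.ncard_insert_of_notMem (by simp), Set.ncard_pair (by simp [h0])]

theorem sq_four [NeZero m] (hm : 2 ∣ m) {i : ZMod m} {g : DihedralGroup m} (hg : g ∈ four hm i) :
    g * g = 1 := by
  rcases hg with rfl | rfl | rfl | rfl <;> simp [half_add_half hm]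

theorem isKleinFour_four [NeZero m] (hm : 2 ∣ m) (i : ZMod m) : IsKleinFour (four hm i) where
  card_four := card_four hm i
  exponent_two := by
    haveI : Nontrivial (four hm i) :=
      Finite.one_lt_card_iff_nontrivial.mp (by rw [card_four hm i]; norm_num)
    refine (Monoid.exponent_eq_prime_iff Nat.prime_two).mpr fun g hg => ?_
    exact orderOf_eq_prime_iff.mpr ⟨Subtype.ext (by simpa [pow_two] using sq_four hm g.2), hg⟩

theorem mul_self_of_kleinFour {G : Type*} [Group G] (U : Subgroup G) [IsKleinFour U] {g : G}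
    (hg : g ∈ U) : g * g = 1 := by
  have h := Monoid.pow_exponent_eq_one (⟨g, hg⟩ : U)
  rw [IsKleinFour.exponent_two, pow_two] at h
  exact congrArg Subtype.val h

theorem exists_eq_four [NeZero m] (hm : 2 ∣ m) (U : Subgroup (DihedralGroup m)) [IsKleinFour U] :
    ∃ i, U = four hm i := by
  have hrot : ∀ a : ZMod m, r a ∈ U → a = 0 ∨ a = half m := fun a ha => by
    have h := mul_self_of_kleinFour U ha
    rw [r_mul_r, one_def, r.injEq] at h
    exact eq_zero_or_half h
  obtain ⟨i, hi⟩ : ∃ i, sr i ∈ U := by
    by_contra hno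
    have hle : (U : Set (DihedralGroup m)) ⊆ {1, r (half m)} := by
      intro g hg
      rcases g with a | a
      · rcases hrot a hg with rfl | rfl <;> simp [one_def, -r_zero]
      · exact absurd ⟨a, hg⟩ hno
    have h1 := Set.ncard_le_ncard hle (Set.toFinite _)
    have h2 : ({1, r (half m)} : Set (DihedralGroup m)).ncard ≤ 2 := by
      refine (Set.ncard_insert_le _ _).trans ?_
      simp
    rw [← Nat.card_coe_set_eq] at h1
    have h4 : Nat.card U = 4 := IsKleinFour.card_four
    have : Nat.card ((U : Set (DihedralGroup m))) = 4 := h4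
    omega
  refine ⟨i, Subgroup.eq_of_le_of_card_ge ?_ ?_⟩
  · intro g hg
    rcases g with a | a
    · exact r_mem_four_iff.mpr (hrot a hg)
    · rw [sr_mem_four_iff]
      have h1 := hrot _ (sr_mul_sr i a ▸ mul_mem hi hg)
      rcases h1 with h1 | h1
      · exact Or.inl (sub_eq_zero.mp h1)
      · exact Or.inr (sub_eq_iff_eq_add'.mp h1)
  · rw [card_four hm i, IsKleinFour.card_four]

theorem parity_of_conj [NeZero m] (hm : 4 ∣ m) {i j : ZMod m} {g : DihedralGroup m}
    (h : g * sr i * g⁻¹ ∈ four ((dvd_mul_left 2 2).trans hm) j) :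
    parity ((dvd_mul_left 2 2).trans hm) i = parity ((dvd_mul_left 2 2).trans hm) j := by
  set π := parity ((dvd_mul_left 2 2).trans hm) with hπ
  have hh : π (half m) = 0 := parity_half hm
  have key : ∀ c : ZMod m, sr c ∈ four ((dvd_mul_left 2 2).trans hm) j → π c = π j := fun c hc => by
    rcases sr_mem_four_iff.mp hc with rfl | rfl
    · rfl
    · rw [map_add, hh, add_zero]
  rcases g with a | a
  · rw [r_mul_sr, inv_r, sr_mul_r] at h
    have h2 := key _ h
    rw [map_add, map_sub, map_neg, ZMod.neg_eq_self_mod_two, CharTwo.sub_eq_add, add_assoc,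
      CharTwo.add_self_eq_zero, add_zero] at h2
    exact h2
  · rw [sr_mul_sr, inv_sr, r_mul_sr] at h
    have h2 := key _ h
    rw [map_sub, map_sub, CharTwo.sub_eq_add, CharTwo.sub_eq_add, ← add_assoc, add_comm (π a) (π i),
      add_assoc, CharTwo.add_self_eq_zero, add_zero] at h2
    exact h2

theorem exists_conj_four [NeZero m] (hm : 2 ∣ m) {i j : ZMod m}
    (h : parity hm i = parity hm j) :
    ∃ g : DihedralGroup m, (four hm i).map (MulAut.conj g).toMonoidHom = four hm j := by
  obtain ⟨b, hb⟩ := exists_add_self_of_parity hm (a := i - j) (by rw [map_sub, h, sub_self])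
  refine ⟨r b, Subgroup.eq_of_le_of_card_ge ?_ ?_⟩
  · rintro _ ⟨g, hg, rfl⟩
    rcases hg with rfl | rfl | rfl | rfl
    · exact Or.inl (by simp)
    · refine Or.inr (Or.inl ?_); simp
    · refine Or.inr (Or.inr (Or.inl ?_))
      simp; linear_combination -hb
    · refine Or.inr (Or.inr (Or.inr ?_))
      simp; linear_combination -hb
  · rw [Subgroup.card_map_of_injective (MulAut.conj (r b)).injective, card_four hm, card_four hm]

theorem r_mem_normalizer_four_iff [NeZero m] (hm : 2 ∣ m) {i a : ZMod m} :
    r a ∈ Subgroup.normalizer ((four hm i : Subgroup (DihedralGroup m)) : Set (DihedralGroup m)) ↔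
      a + a = 0 ∨ a + a = half m := by
  constructor
  · intro h
    have h1 := (Subgroup.mem_normalizer_iff.mp h (sr i)).mp (Or.inr (Or.inr (Or.inl rfl)))
    rw [r_mul_sr, inv_r, sr_mul_r] at h1
    rcases sr_mem_four_iff.mp h1 with h2 | h2
    · exact Or.inl (by linear_combination -h2)
    · exact Or.inr (by linear_combination -h2 - half_add_half hm)
  · intro h
    have hle : (four hm i).map (MulAut.conj (r a)).toMonoidHom ≤ four hm i := by
      rintro _ ⟨g, hg, rfl⟩
      have h2 := half_add_half hm
      rcases hg with rfl | rfl | rfl | rfl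
      · exact Or.inl (by simp)
      · refine Or.inr (Or.inl ?_); simp
      · rcases h with h | h
        · refine Or.inr (Or.inr (Or.inl ?_)); simp; linear_combination -h
        · refine Or.inr (Or.inr (Or.inr ?_)); simp; linear_combination -h - h2
      · rcases h with h | h
        · refine Or.inr (Or.inr (Or.inr ?_)); simp; linear_combination -h
        · refine Or.inr (Or.inr (Or.inl ?_)); simp; linear_combination -h
    have heq := Subgroup.eq_of_le_of_card_ge hle
      (by rw [Subgroup.card_map_of_injective (MulAut.conj (r a)).injective])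
    rw [Subgroup.mem_normalizer_iff]
    intro g
    refine ⟨fun hg => heq.le ⟨g, hg, rfl⟩, fun hg => ?_⟩
    obtain ⟨y, hy, hyg⟩ := heq.ge hg
    rwa [← (MulAut.conj (r a)).injective hyg]

theorem sr_mem_four_self (hm : 2 ∣ m) (i : ZMod m) : sr i ∈ four hm i := Or.inr (Or.inr (Or.inl rfl))

theorem sr_mem_normalizer_four_iff [NeZero m] (hm : 2 ∣ m) {i a : ZMod m} :
    sr a ∈ Subgroup.normalizer ((four hm i : Subgroup (DihedralGroup m)) : Set (DihedralGroup m)) ↔
      (a - i) + (a - i) = 0 ∨ (a - i) + (a - i) = half m := by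
  have hi : sr i ∈ Subgroup.normalizer
      ((four hm i : Subgroup (DihedralGroup m)) : Set (DihedralGroup m)) :=
    Subgroup.le_normalizer (sr_mem_four_self hm i)
  rw [← r_mem_normalizer_four_iff hm (i := i), show r (a - i) = sr i * sr a from rfl]
  exact ⟨fun h => mul_mem hi h, fun h => by simpa [← mul_assoc] using mul_mem (inv_mem hi) h⟩

theorem card_normalizer_four [NeZero m] (hm : 2 ∣ m) (i : ZMod m) :
    Nat.card (Subgroup.normalizer ((four hm i : Subgroup (DihedralGroup m)) : Set (DihedralGroup m))) =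
      Nat.card (Subgroup.normalizer
        ((four hm 0 : Subgroup (DihedralGroup m)) : Set (DihedralGroup m))) := by
  let e : DihedralGroup m ≃ DihedralGroup m :=
    { toFun := fun | r a => r a | sr a => sr (a - i)
      invFun := fun | r a => r a | sr a => sr (a + i)
      left_inv := by rintro (a | a) <;> simp
      right_inv := by rintro (a | a) <;> simp }
  refine Nat.card_congr (Equiv.subtypeEquiv e fun g => ?_)
  rcases g with a | a
  · show r a ∈ _ ↔ r a ∈ _
    rw [r_mem_normalizer_four_iff hm, r_mem_normalizer_four_iff hm]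
  · show sr a ∈ _ ↔ sr (a - i) ∈ _
    rw [sr_mem_normalizer_four_iff hm, sr_mem_normalizer_four_iff hm, sub_zero]

end Cfsg.Agent.DihedralSylow
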